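import Cfsg.Agent.SchurG.McL.Pres
import Cfsg.Agent.SchurG.McL.Top

set_option autoImplicit false
set_option maxRecDepth 100000

namespace Cfsg.Agent.SchurG.McL
open Cfsg.Agent.Comp

namespace Tk5

noncomputable def t0 : Tr := (Tr.leaf (nat_lit 0x1ffffffff001ffffffff001ffffffff001ffffffff001ffffffff001ffffffff001ffffffff001ffffffff001ffffffff001ffffffff001ffffffff001ffffffff001ffffffff861ffc28810821ffc08072001ffc19031))

noncomputable def T : Tr := t0

def RT : List (List (List Nat)) := [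
  [],
  [[nat_lit 0, nat_lit 0]],
  []]

def HT : List (List (Nat × Nat × Nat)) := [
  [],
  [(0, 2, 0)],
  []]

def R : List (List Nat) :=
  [[0, 1],
   [1, 0],
   [0, 0, 0]]

def W : List (List Nat) := []

noncomputable def P : Par := ⟨T, (nat_lit 4), (nat_lit 15), (nat_lit 44), (nat_lit 11), (nat_lit 2047), (nat_lit 5), (nat_lit 31), (nat_lit 2), (nat_lit 19), (nat_lit 32), (nat_lit 0x18801), RT⟩

noncomputable def J0 : List Nat := [
  nat_lit 0x124661111111111111111111111111111111111111111]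

theorem c0 : chk T (nat_lit 4) (nat_lit 15) (nat_lit 44) (nat_lit 11) (nat_lit 2047) (nat_lit 5) (nat_lit 31) (nat_lit 2) (nat_lit 19) (nat_lit 32) (nat_lit 0x18801) (nat_lit 2) (nat_lit 3) RT (nat_lit 16) J0 (nat_lit 16) = true := by
  decide +kernel

theorem r0 : P.RowsOK 16 32 := chk_sound P _ _ _ J0 _ _ (by decide +kernel) c0

theorem index.{u} : IndexLe.{u} 2 R W 3 :=
  indexLe_of_cert P HT (by decide +kernel)
    (show P.RowsOK 16 32 from r0)

end Tk5

theorem upK_5 : CardLe (genW s [[0], [1]]) 3 :=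
  CardLe.tc (V' := []) (n := 3) (m := 1) [0, 1] Tk5.index pres.sat (by decide +kernel) (by decide +kernel) (by decide +kernel) (cardLe_nil s)

namespace Tk4

noncomputable def t0 : Tr := (Tr.leaf (nat_lit 0xffffffffffffffffff000ffffffffffffffffff000ffffffffffffffffff000ffffffffffffffffff000ffffffffffffffffff000ffffffffffffffffff000ffffffffffffffffff000ffffffffffffffffff000ffffffffffffffffff000ffffffffffffffffff892fff0120530940b5095891fff0110b50530b4094490fff010074075093073470fff035051010072052450fff034010072071051000fff033032031050030))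

noncomputable def T : Tr := t0

def RT : List (List (List Nat)) := [
  [[nat_lit 6],
   [nat_lit 3, nat_lit 0, nat_lit 2],
   [nat_lit 2, nat_lit 0, nat_lit 3],
   [nat_lit 4, nat_lit 1, nat_lit 4]],
  [],
  [[nat_lit 4, nat_lit 3, nat_lit 4],
   [nat_lit 3, nat_lit 3]],
  [[nat_lit 2, nat_lit 2],
   [nat_lit 4, nat_lit 2, nat_lit 4]],
  [],
  []]

def HT : List (List (Nat × Nat × Nat)) := [
  [(2, 0, 0), (0, 7, 3), (1, 7, 0), (1, 8, 0)],
  [],
  [(1, 9, 0), (1, 6, 0)],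
  [(0, 6, 0), (0, 9, 1)],
  [],
  []]

def R : List (List Nat) :=
  [[0, 1],
   [1, 0],
   [2, 3],
   [3, 2],
   [4, 4],
   [0, 0, 0],
   [2, 2, 2],
   [0, 2, 1, 3],
   [0, 4, 0, 4],
   [2, 4, 2, 4]]

def W : List (List Nat) := [[0],
   [1]]

noncomputable def P : Par := ⟨T, (nat_lit 4), (nat_lit 15), (nat_lit 84), (nat_lit 12), (nat_lit 4095), (nat_lit 5), (nat_lit 31), (nat_lit 5), (nat_lit 22), (nat_lit 32), (nat_lit 0x18a410c01), RT⟩

noncomputable def J0 : List Nat := [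
  nat_lit 0x8c800058110182280680221a1088686e21084210842108421084210842108421084210842108421084210842108421084210842108421]

theorem c0 : chk T (nat_lit 4) (nat_lit 15) (nat_lit 84) (nat_lit 12) (nat_lit 4095) (nat_lit 5) (nat_lit 31) (nat_lit 5) (nat_lit 22) (nat_lit 32) (nat_lit 0x18a410c01) (nat_lit 3) (nat_lit 7) RT (nat_lit 16) J0 (nat_lit 16) = true := by
  decide +kernel

theorem r0 : P.RowsOK 16 32 := chk_sound P _ _ _ J0 _ _ (by decide +kernel) c0

theorem index.{u} : IndexLe.{u} 5 R W 6 :=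
  indexLe_of_cert P HT (by decide +kernel)
    (show P.RowsOK 16 32 from r0)

end Tk4

theorem upK_4 : CardLe (genW s [[0], [1], [2], [3], [4]]) 18 :=
  CardLe.tc (V' := [[0], [1]]) (n := 6) (m := 3) [0, 1, 2, 3, 4] Tk4.index pres.sat (by decide +kernel) (by decide +kernel) (by decide +kernel) upK_5

namespace Tk3

noncomputable def t0 : Tr := (Tr.node (nat_lit 0) (Tr.leaf (nat_lit 0x6553fff04600140a7c1df067c1df067d914fffc0690b78014077819e025411b664ffff004c06806900d606801600259953fffc317004c35c077019c0e7035c644ffff019c35b004c1db066c15e0255152fffc162004809603900e60798164444bfff02640e100480e3039419905650d2fffc15f0198065025c0120560118424bfff0b70064018c0120360157045d191fffc01101880da068011d03740e04447fff0184095004419505540db0379051fffc060017c05e0550114024c0114047fff017405c016c153044c0110350990fffc0100168059016005704480d22543fff015801001541110344054014c000fffc052014405002400500240050))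
(Tr.leaf (nat_lit 0x3fffffffffffffffffffffffffffc000ffffffffffffffffffffffffffff0003fffffffffffffffffffffffffffc000ffffffffffffffffffffffffffff0003fffffffffffffffffffffffffffe160fffc2e6008026906881e808882a8867bfff00781650aa82270684167038615dfffc2e400742e708a81220ba82a2866ffff006c2630ca022109a40e106a5958fffc2aa00602600268124079019a6463fff0c941a90060099048c1e50695957fffc2a8005c1dd059809a06681a6645ffff0d8c2a7005c16502641e3068d956fffc19a00580e105a01ea09a026a6657fff005409904881e9099c129049d994fffc01401a82260574156025811d)))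

noncomputable def T : Tr := t0

def RT : List (List (List Nat)) := [
  [[nat_lit 4, nat_lit 1, nat_lit 4],
   [nat_lit 6, nat_lit 1, nat_lit 6],
   [nat_lit 1, nat_lit 1],
   [nat_lit 8],
   [nat_lit 3, nat_lit 0, nat_lit 2],
   [nat_lit 2, nat_lit 0, nat_lit 3],
   [nat_lit 5, nat_lit 6, nat_lit 2, nat_lit 6, nat_lit 1, nat_lit 5, nat_lit 3]],
  [[nat_lit 0, nat_lit 0],
   [nat_lit 4, nat_lit 0, nat_lit 4],
   [nat_lit 6, nat_lit 0, nat_lit 6],
   [nat_lit 2, nat_lit 5, nat_lit 0, nat_lit 6, nat_lit 3, nat_lit 6, nat_lit 5],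
   [nat_lit 2, nat_lit 1, nat_lit 3]],
  [[nat_lit 4, nat_lit 3, nat_lit 4],
   [nat_lit 5, nat_lit 3, nat_lit 5],
   [nat_lit 3, nat_lit 3],
   [nat_lit 8],
   [nat_lit 1, nat_lit 2, nat_lit 0],
   [nat_lit 0, nat_lit 2, nat_lit 1]],
  [[nat_lit 2, nat_lit 2],
   [nat_lit 4, nat_lit 2, nat_lit 4],
   [nat_lit 5, nat_lit 2, nat_lit 5],
   [nat_lit 6, nat_lit 1, nat_lit 5, nat_lit 3, nat_lit 1, nat_lit 5, nat_lit 6],
   [nat_lit 0, nat_lit 3, nat_lit 1],
   [nat_lit 1, nat_lit 3, nat_lit 0]],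
  [[nat_lit 8],
   [nat_lit 5, nat_lit 6, nat_lit 4, nat_lit 5, nat_lit 6],
   [nat_lit 1, nat_lit 4, nat_lit 1],
   [nat_lit 0, nat_lit 4, nat_lit 0],
   [nat_lit 6, nat_lit 5, nat_lit 4, nat_lit 6, nat_lit 5]],
  [[nat_lit 6, nat_lit 4, nat_lit 5, nat_lit 6, nat_lit 4],
   [nat_lit 3, nat_lit 5, nat_lit 3],
   [nat_lit 4, nat_lit 5, nat_lit 4, nat_lit 5, nat_lit 4]],
  [[nat_lit 5, nat_lit 0, nat_lit 2, nat_lit 5, nat_lit 0, nat_lit 6, nat_lit 3],
   [nat_lit 4, nat_lit 5, nat_lit 6, nat_lit 4, nat_lit 5],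
   [nat_lit 4, nat_lit 6, nat_lit 4, nat_lit 6, nat_lit 4],
   [nat_lit 0, nat_lit 6, nat_lit 0],
   [nat_lit 1, nat_lit 6, nat_lit 1],
   [nat_lit 5, nat_lit 4, nat_lit 6, nat_lit 5, nat_lit 4]],
  []]

def HT : List (List (Nat × Nat × Nat)) := [
  [(1, 10, 0), (1, 13, 0), (1, 7, 0), (2, 0, 0), (0, 9, 3), (1, 9, 0), (1, 17, 0)],
  [(0, 7, 0), (0, 10, 1), (0, 13, 1), (0, 17, 1), (0, 9, 1)],
  [(1, 11, 0), (1, 12, 0), (1, 8, 0), (2, 2, 0), (1, 9, 3), (0, 9, 0)],
  [(0, 8, 0), (0, 11, 1), (0, 12, 1), (1, 17, 3), (1, 9, 1), (0, 9, 2)],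
  [(2, 4, 0), (0, 15, 1), (1, 10, 1), (0, 10, 0), (1, 15, 0)],
  [(0, 15, 2), (1, 12, 1), (0, 14, 0)],
  [(0, 17, 7), (0, 15, 0), (0, 16, 0), (0, 13, 0), (1, 13, 1), (1, 15, 1)],
  []]

def R : List (List Nat) :=
  [[0, 1],
   [1, 0],
   [2, 3],
   [3, 2],
   [4, 4],
   [5, 5],
   [6, 6],
   [0, 0, 0],
   [2, 2, 2],
   [0, 2, 1, 3],
   [0, 4, 0, 4],
   [2, 4, 2, 4],
   [2, 5, 2, 5],
   [0, 6, 0, 6],
   [4, 5, 4, 5, 4, 5],
   [4, 5, 6, 4, 5, 6],
   [4, 6, 4, 6, 4, 6],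
   [0, 2, 5, 0, 6, 3, 6, 5]]

def W : List (List Nat) := [[0],
   [1],
   [2],
   [3],
   [4]]

noncomputable def P : Par := ⟨T, (nat_lit 4), (nat_lit 15), (nat_lit 126), (nat_lit 14), (nat_lit 16383), (nat_lit 6), (nat_lit 63), (nat_lit 7), (nat_lit 43), (nat_lit 48), (nat_lit 0x8398a410c01), RT⟩

noncomputable def J0 : List Nat := [
  nat_lit 0x13c400013c400010c4001003008401300000841085800001849c000010020850010000008416008400c1708480001200084101800038501202084801303068401300550841432084801303068481,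
  nat_lit 0x4466408410000028410600384012020841c17030085812043841c1604408541040703841003058401323602841654448401041041041041041041041041041041041041041041041041041041041041]

theorem c0 : chk T (nat_lit 4) (nat_lit 15) (nat_lit 126) (nat_lit 14) (nat_lit 16383) (nat_lit 6) (nat_lit 63) (nat_lit 7) (nat_lit 43) (nat_lit 48) (nat_lit 0x8398a410c01) (nat_lit 4) (nat_lit 15) RT (nat_lit 16) J0 (nat_lit 16) = true := by
  decide +kernel

theorem r0 : P.RowsOK 16 48 := chk_sound P _ _ _ J0 _ _ (by decide +kernel) c0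

theorem index.{u} : IndexLe.{u} 7 R W 27 :=
  indexLe_of_cert P HT (by decide +kernel)
    (show P.RowsOK 16 48 from r0)

end Tk3

theorem upK_3 : CardLe (genW s [[0], [1], [2], [3], [4], [5], [6]]) 486 :=
  CardLe.tc (V' := [[0], [1], [2], [3], [4]]) (n := 27) (m := 18) [0, 1, 2, 3, 4, 5, 6] Tk3.index pres.sat (by decide +kernel) (by decide +kernel) (by decide +kernel) upK_4

namespace Tk2

noncomputable def t0 : Tr := (Tr.leaf (nat_lit 0x1fffffffffffffffffffffffffff800fffffffffffffffffffffffffffc007ffffffffffffffffffffffffffe003fffffffffffffffffffffffffff001fffffffffffffffffffffffffff800fffffffffffffffffffffffffffc007ffffffffffffffffffffffffffe003fffffffffffffffffffffffffff001fffffffffffffffffffffffffff800fffffffffffffffffffffffffffc007ffffffffffffffffffffffffffe003fffffffffffffffffffffffffff001fffffffffffffffffffffffffff800fffffffffffffffffffffffffffe787ff0201c0588510a21c4288910e2003ff8910620c0180300a00c028030))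

noncomputable def T : Tr := t0

def RT : List (List (List Nat)) := [
  [[nat_lit 10],
   [nat_lit 8, nat_lit 4, nat_lit 6, nat_lit 3, nat_lit 7]],
  [],
  [[nat_lit 10],
   [nat_lit 8, nat_lit 5, nat_lit 4, nat_lit 7]],
  [],
  [[nat_lit 10],
   [nat_lit 8, nat_lit 2, nat_lit 4, nat_lit 7]],
  [[nat_lit 8, nat_lit 4, nat_lit 7],
   [nat_lit 10]],
  [[nat_lit 3, nat_lit 7, nat_lit 1, nat_lit 8, nat_lit 4],
   [nat_lit 10]],
  [[nat_lit 2, nat_lit 8, nat_lit 5, nat_lit 2]],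
  [],
  []]

def HT : List (List (Nat × Nat × Nat)) := [
  [(2, 0, 0), (1, 24, 0)],
  [],
  [(2, 2, 0), (1, 21, 0)],
  [],
  [(2, 4, 0), (0, 22, 4)],
  [(0, 20, 3), (2, 5, 0)],
  [(1, 24, 3), (2, 6, 0)],
  [(0, 28, 2)],
  [],
  []]

def R : List (List Nat) :=
  [[0, 1],
   [1, 0],
   [2, 3],
   [3, 2],
   [4, 4],
   [5, 5],
   [6, 6],
   [7, 8],
   [8, 7],
   [0, 0, 0],
   [2, 2, 2],
   [0, 2, 1, 3],
   [0, 4, 0, 4],
   [2, 4, 2, 4],
   [2, 5, 2, 5],
   [0, 6, 0, 6],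
   [4, 5, 4, 5, 4, 5],
   [4, 5, 6, 4, 5, 6],
   [4, 6, 4, 6, 4, 6],
   [0, 2, 5, 0, 6, 3, 6, 5],
   [4, 7, 5, 8],
   [2, 8, 4, 5, 7],
   [2, 4, 7, 4, 8],
   [2, 7, 2, 7, 4],
   [0, 8, 2, 6, 4, 7],
   [7, 7, 7, 7],
   [2, 7, 3, 4, 7],
   [2, 7, 5, 4, 8],
   [2, 8, 2, 8, 5],
   [2, 5, 4, 7, 7, 4],
   [0, 6, 4, 8, 1, 6, 8],
   [0, 4, 3, 0, 7, 4, 8]]

def W : List (List Nat) := [[0],
   [1],
   [2],
   [3],
   [4],
   [5],
   [6]]

noncomputable def P : Par := ⟨T, (nat_lit 4), (nat_lit 15), (nat_lit 121), (nat_lit 11), (nat_lit 2047), (nat_lit 5), (nat_lit 31), (nat_lit 9), (nat_lit 18), (nat_lit 32), (nat_lit 0x2927418a410c01), RT⟩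

noncomputable def J0 : List Nat := [
  nat_lit 0x4d0001340004d0005d0005d01ccea9111111111111111111111111111111111111111111111111111111111111111111111111111111111111111111111111111111111111111111111111111111111111111111111]

theorem c0 : chk T (nat_lit 4) (nat_lit 15) (nat_lit 121) (nat_lit 11) (nat_lit 2047) (nat_lit 5) (nat_lit 31) (nat_lit 9) (nat_lit 18) (nat_lit 32) (nat_lit 0x2927418a410c01) (nat_lit 2) (nat_lit 3) RT (nat_lit 16) J0 (nat_lit 16) = true := by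
  decide +kernel

theorem r0 : P.RowsOK 16 32 := chk_sound P _ _ _ J0 _ _ (by decide +kernel) c0

theorem index.{u} : IndexLe.{u} 9 R W 2 :=
  indexLe_of_cert P HT (by decide +kernel)
    (show P.RowsOK 16 32 from r0)

end Tk2

theorem upK_2 : CardLe (genW s [[0], [1], [2], [3], [4], [5], [6], [7], [8]]) 972 :=
  CardLe.tc (V' := [[0], [1], [2], [3], [4], [5], [6]]) (n := 2) (m := 486) [0, 1, 2, 3, 4, 5, 6, 7, 8] Tk2.index pres.sat (by decide +kernel) (by decide +kernel) (by decide +kernel) upK_3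

namespace Tk1

noncomputable def t0 : Tr := (Tr.node (nat_lit 0) (Tr.leaf (nat_lit 0x6653fff09944a5076c0140da011d0a74266048c1256553fff087819607601eb00501de06800960c9c2eb684ffff06700ea004c4a801ac15f06982df0da429b674ffff077401301a8429057032112881a711a0360654ffff138819f10881e0004c2a303903250b74069634ffff10a006807842610d9415902640130460095624ffff0a8c0670198065019019a004c0da045c094634bfff075821e04485a208600d4025c012025415a624bfff0850114055406306480d500480d802501594547fff066015207781d500441a003781a001880614347fff038019707801960580117025001103680d84247fff075c060055c05f017811800440d503640d74147fff054c05d0170091016c113016805902480114047fff02481580658112075c091016005700440d32943fff004011103440d301580d20154054014c0520003fff01440900140050014005002400500240050))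
(Tr.leaf (nat_lit 0x3ffffffffffffffffffffffffffffffffffffff0003ffffffffffffffffffffffffffffffffffffffa9affff00ac12c09b03ad0ab45ed19b462d0db432da993fff00902ad05b442c18b026c19b062c19b062c8577fff01b4224039019e00740a707a02610c783678773fff08a801c02743ea18a41e40b8c3a90f90326806ffff16846a11ba03dc19a82e50fa8363006c31d886bfff0f6872900684dd0c7c3e20d8422b0e8049c8867fff169c52300643a713880eb05704e20eac35e8767fff1798019158c32408841e6087c15d0da83648667fff087c422137c0190c683290b6c3a4037c1638567fff01b012b09ac2e6006422a0d9409b0c983aa865ffff09645a6159c017178c25b0ea432a06940df615bfff126c45b1194558149c428149c45c0284016605bfff17a419a1ba421a09982dc0aac3a800580e26853fff0254195005021b0454156055815e0e703e8)))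

noncomputable def T : Tr := t0

def RT : List (List (List Nat)) := [
  [[nat_lit 3, nat_lit 0, nat_lit 2],
   [nat_lit 2, nat_lit 0, nat_lit 3],
   [nat_lit 6, nat_lit 1, nat_lit 6],
   [nat_lit 1, nat_lit 1],
   [nat_lit 11],
   [nat_lit 4, nat_lit 1, nat_lit 4],
   [nat_lit 9, nat_lit 6, nat_lit 9, nat_lit 0, nat_lit 9]],
  [[nat_lit 0, nat_lit 0],
   [nat_lit 3, nat_lit 1, nat_lit 2],
   [nat_lit 2, nat_lit 1, nat_lit 3],
   [nat_lit 6, nat_lit 0, nat_lit 6],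
   [nat_lit 4, nat_lit 0, nat_lit 4]],
  [[nat_lit 5, nat_lit 3, nat_lit 5],
   [nat_lit 11],
   [nat_lit 8, nat_lit 3, nat_lit 4, nat_lit 8],
   [nat_lit 4, nat_lit 3, nat_lit 4],
   [nat_lit 3, nat_lit 3],
   [nat_lit 0, nat_lit 2, nat_lit 1],
   [nat_lit 7, nat_lit 4, nat_lit 8, nat_lit 4],
   [nat_lit 8, nat_lit 5, nat_lit 4, nat_lit 7]],
  [[nat_lit 2, nat_lit 2],
   [nat_lit 7, nat_lit 3, nat_lit 4, nat_lit 7],
   [nat_lit 7, nat_lit 5, nat_lit 4, nat_lit 8],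
   [nat_lit 5, nat_lit 2, nat_lit 5],
   [nat_lit 4, nat_lit 2, nat_lit 4],
   [nat_lit 1, nat_lit 3, nat_lit 0]],
  [[nat_lit 5, nat_lit 7, nat_lit 2, nat_lit 8],
   [nat_lit 11],
   [nat_lit 1, nat_lit 9, nat_lit 4, nat_lit 6, nat_lit 4, nat_lit 9],
   [nat_lit 0, nat_lit 4, nat_lit 0],
   [nat_lit 2, nat_lit 4, nat_lit 2],
   [nat_lit 3, nat_lit 4, nat_lit 3],
   [nat_lit 8, nat_lit 4, nat_lit 3, nat_lit 7],
   [nat_lit 7, nat_lit 3, nat_lit 8, nat_lit 5],
   [nat_lit 9, nat_lit 4, nat_lit 9, nat_lit 4, nat_lit 9],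
   [nat_lit 6, nat_lit 3, nat_lit 7, nat_lit 1, nat_lit 8],
   [nat_lit 1, nat_lit 4, nat_lit 1],
   [nat_lit 6, nat_lit 4, nat_lit 6, nat_lit 4, nat_lit 6]],
  [[nat_lit 11],
   [nat_lit 8, nat_lit 4, nat_lit 7],
   [nat_lit 7, nat_lit 3, nat_lit 7, nat_lit 3],
   [nat_lit 7, nat_lit 2, nat_lit 8, nat_lit 4],
   [nat_lit 2, nat_lit 5, nat_lit 2],
   [nat_lit 3, nat_lit 5, nat_lit 3]],
  [[nat_lit 11],
   [nat_lit 0, nat_lit 9, nat_lit 6, nat_lit 0, nat_lit 9],
   [nat_lit 1, nat_lit 6, nat_lit 1],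
   [nat_lit 3, nat_lit 7, nat_lit 1, nat_lit 8, nat_lit 4],
   [nat_lit 5, nat_lit 4, nat_lit 6, nat_lit 5, nat_lit 4],
   [nat_lit 4, nat_lit 7, nat_lit 0, nat_lit 8, nat_lit 2],
   [nat_lit 0, nat_lit 6, nat_lit 0],
   [nat_lit 9, nat_lit 1, nat_lit 6, nat_lit 9, nat_lit 1],
   [nat_lit 9, nat_lit 0, nat_lit 9, nat_lit 1, nat_lit 9]],
  [[nat_lit 8, nat_lit 8, nat_lit 8],
   [nat_lit 4, nat_lit 7, nat_lit 5],
   [nat_lit 9, nat_lit 8, nat_lit 9],
   [nat_lit 11],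
   [nat_lit 4, nat_lit 2, nat_lit 8, nat_lit 3],
   [nat_lit 2, nat_lit 4, nat_lit 7, nat_lit 4],
   [nat_lit 3, nat_lit 8, nat_lit 3, nat_lit 4]],
  [[nat_lit 9, nat_lit 7, nat_lit 9],
   [nat_lit 5, nat_lit 8, nat_lit 4],
   [nat_lit 3, nat_lit 4, nat_lit 7, nat_lit 2],
   [nat_lit 4, nat_lit 5, nat_lit 8, nat_lit 3],
   [nat_lit 1, nat_lit 8, nat_lit 4, nat_lit 6, nat_lit 3],
   [nat_lit 7, nat_lit 7, nat_lit 7]],
  [[nat_lit 7, nat_lit 3, nat_lit 9, nat_lit 4, nat_lit 5, nat_lit 9, nat_lit 3],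
   [nat_lit 1, nat_lit 9, nat_lit 6, nat_lit 9, nat_lit 0],
   [nat_lit 1, nat_lit 6, nat_lit 9, nat_lit 1, nat_lit 6],
   [nat_lit 7, nat_lit 9, nat_lit 7],
   [nat_lit 8, nat_lit 9, nat_lit 8],
   [nat_lit 6, nat_lit 9, nat_lit 0, nat_lit 9, nat_lit 1]],
  []]

def HT : List (List (Nat × Nat × Nat)) := [
  [(0, 12, 3), (1, 12, 0), (1, 16, 0), (1, 10, 0), (2, 0, 0), (1, 13, 0), (0, 30, 3)],
  [(0, 10, 0), (1, 12, 2), (0, 12, 1), (0, 16, 1), (0, 13, 1)],
  [(1, 15, 0), (2, 2, 0), (1, 24, 3), (1, 14, 0), (1, 11, 0), (0, 12, 0), (1, 23, 0), (1, 22, 0)],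
  [(0, 11, 0), (0, 28, 1), (0, 34, 1), (0, 15, 1), (0, 14, 1), (0, 12, 2)],
  [(0, 22, 3), (2, 4, 0), (1, 33, 6), (0, 13, 0), (0, 14, 0), (1, 14, 1), (1, 23, 2), (1, 22, 3), (0, 31, 1), (1, 25, 2), (1, 13, 1), (0, 19, 1)],
  [(2, 5, 0), (0, 21, 3), (1, 35, 1), (0, 22, 4), (0, 15, 0), (1, 15, 1)],
  [(2, 6, 0), (0, 29, 0), (1, 16, 1), (1, 25, 3), (1, 18, 1), (0, 25, 4), (0, 16, 0), (1, 29, 1), (0, 30, 5)],
  [(1, 27, 0), (0, 21, 0), (1, 26, 0), (2, 7, 0), (1, 28, 1), (0, 23, 0), (1, 24, 2)],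
  [(0, 26, 1), (0, 21, 2), (0, 28, 2), (1, 34, 1), (1, 25, 5), (0, 27, 0)],
  [(1, 32, 6), (0, 30, 2), (1, 29, 2), (0, 26, 0), (1, 26, 1), (0, 30, 4)],
  []]

def R : List (List Nat) :=
  [[0, 1],
   [1, 0],
   [2, 3],
   [3, 2],
   [4, 4],
   [5, 5],
   [6, 6],
   [7, 8],
   [8, 7],
   [9, 9],
   [0, 0, 0],
   [2, 2, 2],
   [0, 2, 1, 3],
   [0, 4, 0, 4],
   [2, 4, 2, 4],
   [2, 5, 2, 5],
   [0, 6, 0, 6],
   [4, 5, 4, 5, 4, 5],
   [4, 5, 6, 4, 5, 6],
   [4, 6, 4, 6, 4, 6],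
   [0, 2, 5, 0, 6, 3, 6, 5],
   [4, 7, 5, 8],
   [2, 8, 4, 5, 7],
   [2, 4, 7, 4, 8],
   [2, 7, 2, 7, 4],
   [0, 8, 2, 6, 4, 7],
   [7, 9, 7, 9],
   [7, 7, 7, 7],
   [2, 7, 3, 4, 7],
   [0, 9, 6, 0, 9, 6],
   [0, 9, 1, 9, 6, 9],
   [4, 9, 4, 9, 4, 9],
   [2, 8, 9, 2, 9, 5, 4, 9],
   [0, 4, 9, 4, 6, 4, 9],
   [2, 7, 5, 4, 8],
   [2, 8, 2, 8, 5],
   [2, 5, 4, 7, 7, 4],
   [0, 6, 4, 8, 1, 6, 8],
   [0, 4, 3, 0, 7, 4, 8],
   [0, 6, 9, 1, 9, 0, 9]]

def W : List (List Nat) := [[0],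
   [1],
   [2],
   [3],
   [4],
   [5],
   [6],
   [7],
   [8]]

noncomputable def P : Par := ⟨T, (nat_lit 4), (nat_lit 15), (nat_lit 168), (nat_lit 14), (nat_lit 16383), (nat_lit 6), (nat_lit 63), (nat_lit 10), (nat_lit 46), (nat_lit 48), (nat_lit 0x5a927418a410c01), RT⟩

noncomputable def J0 : List Nat := [
  nat_lit 0x14c400011c400011c40010c40010c40013c40010000000408410840101000c18480140c0101000840000181008480140001000008400d8103085d41900104849981c0012208400000013284980000010000085a0c01760003008401700000484141362078408d410002b0841c01,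
  nat_lit 0x259408548108401c1018018494001401414000d38401c12422085c0001550707840d01004683028581006307884d410305c60840c1585c30108cc12076978285815024285ccc018090a3a008418080a3942841041041041041041041041041041041041]

theorem c0 : chk T (nat_lit 4) (nat_lit 15) (nat_lit 168) (nat_lit 14) (nat_lit 16383) (nat_lit 6) (nat_lit 63) (nat_lit 10) (nat_lit 46) (nat_lit 48) (nat_lit 0x5a927418a410c01) (nat_lit 4) (nat_lit 15) RT (nat_lit 16) J0 (nat_lit 16) = true := by
  decide +kernel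

theorem r0 : P.RowsOK 16 48 := chk_sound P _ _ _ J0 _ _ (by decide +kernel) c0

theorem index.{u} : IndexLe.{u} 10 R W 30 :=
  indexLe_of_cert P HT (by decide +kernel)
    (show P.RowsOK 16 48 from r0)

end Tk1

theorem upK_1 : CardLe (genW s [[0], [1], [2], [3], [4], [5], [6], [7], [8], [9]]) 29160 :=
  CardLe.tc (V' := [[0], [1], [2], [3], [4], [5], [6], [7], [8]]) (n := 30) (m := 972) [0, 1, 2, 3, 4, 5, 6, 7, 8, 9] Tk1.index pres.sat (by decide +kernel) (by decide +kernel) (by decide +kernel) upK_2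

namespace Tk0

noncomputable def t0 : Tr := (Tr.node (nat_lit 2) (Tr.node (nat_lit 0) (Tr.leaf (nat_lit 0x3293ffff00b700b6032404240f3300130ca00c290a980c2d0caa3193ffff0cad0f1e07ad0ca70d190b18041e011d0013021901153113ffff00b500b40dae00b30b270ca903130013019e029601143492ffff0630001206a601b003b1071c0fa8112800b2022c00b13412ffff039700b0049700120d2b0894019b042509170cab0b2e3312ffff0d2b00af0d290c98001200ae08ad00ad092102a001183192ffff0da51195061407950c9e02960315029600120115029e2311ffff011800ac0c1a00ab00110b9e00aa0b1f00a9019a01a02291ffff041b00a80296051b0a1600110a25099b092500a70aa42211ffff019200a605920317099703190011019203190314031d2191ffff0e151119071904a50d9508a5039901140011019e01992111ffff0e14102500a5069900a4091b031200110195019d02962091ffff0e2100a300a200a100a0009f039d009e009d011200112011ffff0216009c009b0516009a0112029400990216001101931510ffff001001110211019100980097009600950094009300920000ffff00910090011000900090009000900110009001100090))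
(Tr.node (nat_lit 1) (Tr.leaf (nat_lit 0x449affff0f2f001a0d2c0ec6033a164113bc143d00cb03a3053a429affff0f2e00ca0eb50d1d0e2e001a0cab09b308240a9b0dab419affff0d1e0ea70d20071e0e2207a4081a07a1001a08aa0b9f3498ffff0dc6001801c70daf02ac00c90f4411b900c80331019c3398ffff0c9a00c700180ca90d9b0ba20d2e0ba20ca70e2e0c1b3218ffff0f2219420c210ba20da50d2a00180e3509a00c1f092d3118ffff0e2900c60d2b0d9a0f290c1d0db500180b9f0ca10e353497ffff0626001705b0032600c512320f1c1232109c10b900c43097ffff0da00e2d0c1e0da00a9d0d270d330d2b0ba20b2400173496ffff06a8001603a8061c143d10b001a6103000c300c200c13414ffff0d191094041500140e2a081509970897039b0b220b333314ffff00c000bf049f039f0014082d022208ae03b30a170ba73493ffff0eb9001301b801b901a300be00bd00bc00bb00ba042f3413ffff0eaa00b90c2a00130ead0c2b02a40c270c2b0cb30aa53393ffff0d9300b800130caa103504330421089a082d0db50d293313ffff0e2702200e270dad00130eb50c1f0a2a0e350118021a))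
(Tr.leaf (nat_lit 0x44a4ffff00e30024043605360bc20dbf153a1659163a14bd153c42a3ffff00e21f4c025813491343002312c701da14dd15c700e14223ffff00e015c500df10c513a600de0023134b13af143c153f41a3ffff1d4a1d33054e1cb41541145d132f013b002315bf14bd4123ffff18c800dd00dc054f00db00da12cb002301bc01d904cb40a3ffff24d003b11754245102af175915bf15bf00d904af002344a2ffff0f230022012318c210b4104503b112c8112c0fc4102844a1ffff194200211942012311561ad300d816c600d700d6174f451fffff001f05d505c004c0103712370d3710b71137133712b7449fffff00d5001f05bf04bf11c423d10d3600d423510f3410c5451dffff001d1e4e0eb30e2e0fa10f200d290ea00daa0ea90d21449dffff0f34001d1c3c0e4a11391bc611c500d300d20bc50fb6439dffff0fb31dbc001d0f350e9f03a10ca70324092e0aa50c22411cffff1732193213430743164611a812b2001c11a802c801ce401cffff00d1043a124b00d0031c00cf043911c400ce001c02ac449bffff069c001b011c05280e4d1026114311430fa600cd00cc))))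
(Tr.node (nat_lit 4) (Tr.node (nat_lit 3) (Tr.leaf (nat_lit 0x52b1ffff185e0cc804bb154d18cf003115c606d8075f16b818565131ffff1e4e1eb51d4a04bc17e7065812c8003112440132034850b0ffff16d715de15cf155c0db0174714de11ca1042014c00305030ffff00ea1ebe1dc91e580ecc15cb0dca155e1041003001cd512fffff24d925511d5211b100e9164c123b002f12bd043b05d954aeffff1dbc002e0db41dce146117db0e4c10c2124d155e11c342acffff00e81fc912be1e4c20d4002c1952145c1ec520d42053412cffff193b0d4f13de0ddd17d813dc134e002c123903ce023244abffff0247002b0d46012c13de16cd123e12d013db16e1163e44a9ffff0e2c00290e2f0dc716b21b34164f15d7163800e713d84328ffff00e6153d103d185b00280fb911341f491fdc10360b344028ffff00e50ac1135a16c1113612df0eac12ce113100280f394126ffff17c319c306b212b213be11c310b0002610b0124a155e40a6ffff19b818aa183919b80b3f17d0024110cd114a014100264026ffff00e40b44174411d314bc15af02c210cc155e002601c24524ffff002406e3043705370ec00dc011c0124011c010400fc0))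
(Tr.leaf (nat_lit 0x543dffff00f418db14db003d19d21244025706cf0258165717ef52bdffff17cf164d025713481347003d144d14c114cc14c314ca54bbffff17dc003b0d48145716d913bc15d0153e145a165b17e9543bffff185d14d714cd003b216f134817d31f4513c921d120d2533bffff00f3195f17c5155f003b174a13da134714d0056916dd52bbffff00f21353175312c4196b003b145b14dd013e165017eb513affff244b1d5223d11654175d16ba1359003a15bf054b013b5238ffff00f104d81dcc01be174805ce003802df064f134612e75138ffff174d155c14dd02de17d11b5202df0038154601ef16df50b8ffff00f0106719e11b6b10b81ad61267176700ef17cf00385536ffff003605370563066313ed00ee23622a652aec00ed236251b6ffff25d2175016d916ba204917d42351235100360fd3204951b4ffff00ec13da114117da1dd31a38185c015200341fc910545134ffff25541cd91c501ccb195f1bd718c9003401d3205c1ad15531ffff003124cb23ba24591857233622d422b622d41a52225c53b1ffff243a17d400311cd218501742165d145b124700eb16da)))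
(Tr.node (nat_lit 5) (Tr.leaf (nat_lit 0x6156ffff24e922691be91be920dc1b6716ef005615e7175f015762d5ffff2ced2577137829ed2c6500552666246a266600fe00fd60d5ffff2d6e146d296e2af7135528e024ed2cf226f123e200556553ffff005318e4187211e42cfb2cea2af72b552b652cf12c7460d0ffff29f51beb1ad61ae718da1b61186918691761175a0050654cffff004c216a1ef11e682b7c2c6c256a26e624ee2afa00fc634bffff256f21ef1c6f1c6f004b1ce918eb176118eb175d04db5549ffff004920711eea1362267424e826e029642278257300fb50c6ffff00fa0fd61b6b1c61174e1bef11d6166f16d6125800465545ffff0045197318f310e014e029e526ee26ee276a277600f95544ffff00441872176413f22bee29662b742bec29d52e722b775541ffff0041186c126c17e51ef6297828f3297828e8276028f5553fffff003f064005d504d51a7023f112f825f328601c7000f8553effff003e206213e802f11862267422d500f7267422d5246d503effff00f61d611ce71a5613ca1beb176117eb17e9003e1647553dffff003d1af4116601f41566286d276827e3287300f527e4))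
(Tr.leaf (nat_lit 0x84fcffff2c7f007c2cff2c7f2aff2d7f2aff2dff2d7f2c7f2bff70eeffff30fe297d28fd28f92cf729fa26f9297a2876017d006e706effff307929fe21fb297e2ef22770227624fc26f9006e01fe706affff2bfc00ff2bfc2b7c2aea2a7529fa2779257d006a29fa6068ffff30fb20f92879227d2c6c19f9277529f520f0006825f36567ffff00671cfa1cf628f51efa2a7e2a7c2a7629fe2a7c2a6a6066ffff2ffd217b297e27fb15751a7b277e277d27fc006627f66063ffff2d770f7823f712ee10f829e4126321e828e400631af061e2ffff2df824ee2a6d24782d7e24f72a6c26f400622ae52d726561ffff006128f51af01d7a1e641d7622fd28fe29fa287926e660e0ffff296b2976297a28f015f92afc27fb29f02a7b28640060655fffff005f1a600160157325e826e22ae526e227772bec2671655bffff005b19e615f4186619712c72286428e02663267b24e8655affff005a17e5136517ec2f7d2bf32d712d712d6d2df72de56558ffff005820e802621e6a19f323632df2276d2cf226f42c6c6556ffff00561bf028751b7619e327fd1cf0217b2a751b781be3)))))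

noncomputable def T : Tr := t0

def RT : List (List (List Nat)) := [
  [[nat_lit 6, nat_lit 1, nat_lit 6],
   [nat_lit 3, nat_lit 0, nat_lit 2],
   [nat_lit 2, nat_lit 0, nat_lit 3],
   [nat_lit 1, nat_lit 1],
   [nat_lit 12],
   [nat_lit 4, nat_lit 1, nat_lit 4],
   [nat_lit 6, nat_lit 9, nat_lit 1, nat_lit 6, nat_lit 9],
   [nat_lit 10, nat_lit 0, nat_lit 5, nat_lit 1, nat_lit 10, nat_lit 4, nat_lit 3],
   [nat_lit 10, nat_lit 0, nat_lit 2, nat_lit 7, nat_lit 6, nat_lit 3, nat_lit 10, nat_lit 4, nat_lit 10],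
   [nat_lit 8, nat_lit 4, nat_lit 6, nat_lit 3, nat_lit 7],
   [nat_lit 9, nat_lit 6, nat_lit 9, nat_lit 0, nat_lit 9],
   [nat_lit 6, nat_lit 8, nat_lit 0, nat_lit 6, nat_lit 4, nat_lit 8]],
  [[nat_lit 0, nat_lit 0],
   [nat_lit 2, nat_lit 1, nat_lit 3],
   [nat_lit 6, nat_lit 0, nat_lit 6],
   [nat_lit 3, nat_lit 1, nat_lit 2],
   [nat_lit 4, nat_lit 0, nat_lit 4],
   [nat_lit 4, nat_lit 9, nat_lit 4, nat_lit 6, nat_lit 4, nat_lit 9],
   [nat_lit 9, nat_lit 1, nat_lit 9, nat_lit 6, nat_lit 9],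
   [nat_lit 8, nat_lit 2, nat_lit 6, nat_lit 4, nat_lit 7]],
  [[nat_lit 5, nat_lit 3, nat_lit 5],
   [nat_lit 7, nat_lit 4, nat_lit 8, nat_lit 4],
   [nat_lit 12],
   [nat_lit 3, nat_lit 3],
   [nat_lit 0, nat_lit 2, nat_lit 1],
   [nat_lit 7, nat_lit 1, nat_lit 8, nat_lit 4, nat_lit 6],
   [nat_lit 5, nat_lit 7, nat_lit 3, nat_lit 7],
   [nat_lit 8, nat_lit 4, nat_lit 2, nat_lit 8],
   [nat_lit 8, nat_lit 5, nat_lit 4, nat_lit 7],
   [nat_lit 1, nat_lit 2, nat_lit 0],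
   [nat_lit 8, nat_lit 3, nat_lit 4, nat_lit 8],
   [nat_lit 4, nat_lit 3, nat_lit 4],
   [nat_lit 1, nat_lit 10, nat_lit 0, nat_lit 5, nat_lit 1, nat_lit 10, nat_lit 4],
   [nat_lit 4, nat_lit 8, nat_lit 3, nat_lit 8]],
  [[nat_lit 2, nat_lit 2],
   [nat_lit 4, nat_lit 10, nat_lit 0, nat_lit 5, nat_lit 1, nat_lit 10, nat_lit 0],
   [nat_lit 5, nat_lit 2, nat_lit 5],
   [nat_lit 8, nat_lit 3, nat_lit 8, nat_lit 4],
   [nat_lit 7, nat_lit 2, nat_lit 7, nat_lit 4],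
   [nat_lit 6, nat_lit 4, nat_lit 7, nat_lit 0, nat_lit 8],
   [nat_lit 4, nat_lit 2, nat_lit 4],
   [nat_lit 1, nat_lit 3, nat_lit 0],
   [nat_lit 0, nat_lit 3, nat_lit 1],
   [nat_lit 8, nat_lit 4, nat_lit 5, nat_lit 7],
   [nat_lit 4, nat_lit 1, nat_lit 7, nat_lit 4, nat_lit 8, nat_lit 1],
   [nat_lit 7, nat_lit 3, nat_lit 4, nat_lit 7]],
  [[nat_lit 7, nat_lit 4, nat_lit 8, nat_lit 2],
   [nat_lit 12],
   [nat_lit 7, nat_lit 5, nat_lit 8],
   [nat_lit 2, nat_lit 4, nat_lit 2],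
   [nat_lit 3, nat_lit 4, nat_lit 3],
   [nat_lit 1, nat_lit 4, nat_lit 1],
   [nat_lit 0, nat_lit 4, nat_lit 0],
   [nat_lit 8, nat_lit 4, nat_lit 3, nat_lit 7],
   [nat_lit 6, nat_lit 3, nat_lit 7, nat_lit 1, nat_lit 8],
   [nat_lit 1, nat_lit 9, nat_lit 4, nat_lit 6, nat_lit 4, nat_lit 9],
   [nat_lit 9, nat_lit 4, nat_lit 6, nat_lit 4, nat_lit 9, nat_lit 0],
   [nat_lit 9, nat_lit 0, nat_lit 4, nat_lit 9, nat_lit 4, nat_lit 6],
   [nat_lit 10, nat_lit 0, nat_lit 5, nat_lit 1, nat_lit 10, nat_lit 0, nat_lit 2],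
   [nat_lit 10, nat_lit 2, nat_lit 6, nat_lit 8, nat_lit 3, nat_lit 1, nat_lit 10, nat_lit 0, nat_lit 10],
   [nat_lit 8, nat_lit 2, nat_lit 7, nat_lit 5],
   [nat_lit 9, nat_lit 4, nat_lit 9, nat_lit 4, nat_lit 9],
   [nat_lit 7, nat_lit 3, nat_lit 8, nat_lit 5],
   [nat_lit 5, nat_lit 6, nat_lit 4, nat_lit 5, nat_lit 6],
   [nat_lit 6, nat_lit 4, nat_lit 6, nat_lit 4, nat_lit 6],
   [nat_lit 8, nat_lit 2, nat_lit 4, nat_lit 7],
   [nat_lit 5, nat_lit 8, nat_lit 3, nat_lit 7]],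
  [[nat_lit 1, nat_lit 10, nat_lit 0, nat_lit 2, nat_lit 4, nat_lit 10, nat_lit 0],
   [nat_lit 12],
   [nat_lit 2, nat_lit 5, nat_lit 2],
   [nat_lit 8, nat_lit 4, nat_lit 7],
   [nat_lit 3, nat_lit 5, nat_lit 3],
   [nat_lit 8, nat_lit 3, nat_lit 7, nat_lit 4],
   [nat_lit 7, nat_lit 2, nat_lit 8, nat_lit 4],
   [nat_lit 4, nat_lit 7, nat_lit 3, nat_lit 8],
   [nat_lit 2, nat_lit 8, nat_lit 2, nat_lit 8],
   [nat_lit 7, nat_lit 3, nat_lit 7, nat_lit 3],
   [nat_lit 6, nat_lit 4, nat_lit 5, nat_lit 6, nat_lit 4],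
   [nat_lit 1, nat_lit 10, nat_lit 4, nat_lit 3, nat_lit 1, nat_lit 10, nat_lit 0]],
  [[nat_lit 0, nat_lit 9, nat_lit 6, nat_lit 0, nat_lit 9],
   [nat_lit 12],
   [nat_lit 4, nat_lit 7, nat_lit 0, nat_lit 8, nat_lit 2],
   [nat_lit 0, nat_lit 6, nat_lit 0],
   [nat_lit 3, nat_lit 7, nat_lit 1, nat_lit 8, nat_lit 4],
   [nat_lit 1, nat_lit 6, nat_lit 1],
   [nat_lit 4, nat_lit 5, nat_lit 6, nat_lit 4, nat_lit 5],
   [nat_lit 5, nat_lit 4, nat_lit 6, nat_lit 5, nat_lit 4],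
   [nat_lit 5, nat_lit 0, nat_lit 2, nat_lit 5, nat_lit 0, nat_lit 6, nat_lit 3],
   [nat_lit 9, nat_lit 0, nat_lit 9, nat_lit 1, nat_lit 9],
   [nat_lit 10, nat_lit 6, nat_lit 10, nat_lit 6, nat_lit 10],
   [nat_lit 1, nat_lit 9, nat_lit 1, nat_lit 9, nat_lit 0, nat_lit 9],
   [nat_lit 9, nat_lit 1, nat_lit 6, nat_lit 9, nat_lit 1]],
  [[nat_lit 9, nat_lit 8, nat_lit 9],
   [nat_lit 4, nat_lit 7, nat_lit 5],
   [nat_lit 12],
   [nat_lit 10, nat_lit 8, nat_lit 10],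
   [nat_lit 8, nat_lit 8, nat_lit 8],
   [nat_lit 5, nat_lit 4, nat_lit 7, nat_lit 3],
   [nat_lit 4, nat_lit 3, nat_lit 7, nat_lit 4],
   [nat_lit 3, nat_lit 4, nat_lit 8, nat_lit 3],
   [nat_lit 2, nat_lit 6, nat_lit 4, nat_lit 7, nat_lit 0],
   [nat_lit 3, nat_lit 8, nat_lit 4, nat_lit 2],
   [nat_lit 2, nat_lit 8, nat_lit 5, nat_lit 2],
   [nat_lit 4, nat_lit 2, nat_lit 8, nat_lit 3],
   [nat_lit 5, nat_lit 2, nat_lit 8, nat_lit 2]],
  [[nat_lit 9, nat_lit 7, nat_lit 9],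
   [nat_lit 10, nat_lit 7, nat_lit 10],
   [nat_lit 5, nat_lit 4, nat_lit 8, nat_lit 2],
   [nat_lit 2, nat_lit 7, nat_lit 3, nat_lit 4],
   [nat_lit 3, nat_lit 7, nat_lit 3, nat_lit 5],
   [nat_lit 5, nat_lit 8, nat_lit 4],
   [nat_lit 7, nat_lit 7, nat_lit 7],
   [nat_lit 3, nat_lit 4, nat_lit 7, nat_lit 2],
   [nat_lit 0, nat_lit 8, nat_lit 2, nat_lit 6, nat_lit 4],
   [nat_lit 2, nat_lit 7, nat_lit 4, nat_lit 2],
   [nat_lit 4, nat_lit 8, nat_lit 4, nat_lit 3],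
   [nat_lit 1, nat_lit 8, nat_lit 4, nat_lit 6, nat_lit 3],
   [nat_lit 4, nat_lit 5, nat_lit 8, nat_lit 3]],
  [[nat_lit 4, nat_lit 9, nat_lit 4, nat_lit 9, nat_lit 4],
   [nat_lit 1, nat_lit 9, nat_lit 6, nat_lit 9, nat_lit 0],
   [nat_lit 10, nat_lit 9, nat_lit 8, nat_lit 8, nat_lit 10],
   [nat_lit 8, nat_lit 10, nat_lit 9, nat_lit 8, nat_lit 10],
   [nat_lit 0, nat_lit 9, nat_lit 6, nat_lit 1, nat_lit 9, nat_lit 1],
   [nat_lit 5, nat_lit 4, nat_lit 9, nat_lit 2, nat_lit 8, nat_lit 9, nat_lit 2],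
   [nat_lit 0, nat_lit 9, nat_lit 1, nat_lit 9, nat_lit 6],
   [nat_lit 12],
   [nat_lit 10, nat_lit 7, nat_lit 7, nat_lit 9, nat_lit 10],
   [nat_lit 6, nat_lit 0, nat_lit 9, nat_lit 6, nat_lit 0],
   [nat_lit 7, nat_lit 9, nat_lit 7],
   [nat_lit 8, nat_lit 9, nat_lit 8],
   [nat_lit 6, nat_lit 9, nat_lit 0, nat_lit 9, nat_lit 1],
   [nat_lit 10, nat_lit 7, nat_lit 9, nat_lit 10, nat_lit 7]],
  [[nat_lit 6, nat_lit 10, nat_lit 6, nat_lit 10, nat_lit 6],
   [nat_lit 9, nat_lit 8, nat_lit 10, nat_lit 9, nat_lit 8],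
   [nat_lit 8, nat_lit 10, nat_lit 8],
   [nat_lit 7, nat_lit 10, nat_lit 7],
   [nat_lit 9, nat_lit 8, nat_lit 8, nat_lit 10, nat_lit 9],
   [nat_lit 4, nat_lit 3, nat_lit 1, nat_lit 10, nat_lit 0, nat_lit 5, nat_lit 1],
   [nat_lit 4, nat_lit 10, nat_lit 2, nat_lit 6, nat_lit 8, nat_lit 3, nat_lit 1, nat_lit 10, nat_lit 0],
   [nat_lit 9, nat_lit 10, nat_lit 9, nat_lit 8, nat_lit 8],
   [nat_lit 0, nat_lit 5, nat_lit 1, nat_lit 10, nat_lit 0, nat_lit 2, nat_lit 4],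
   [nat_lit 0, nat_lit 2, nat_lit 4, nat_lit 10, nat_lit 0, nat_lit 5, nat_lit 1],
   [nat_lit 9, nat_lit 10, nat_lit 7, nat_lit 7, nat_lit 9]],
  []]

def HT : List (List (Nat × Nat × Nat)) := [
  [(1, 17, 0), (0, 13, 3), (1, 13, 0), (1, 11, 0), (2, 0, 0), (1, 14, 0), (1, 30, 0), (1, 39, 0), (0, 40, 9), (1, 26, 0), (0, 31, 3), (0, 44, 5)],
  [(0, 11, 0), (0, 13, 1), (0, 17, 1), (1, 13, 2), (0, 14, 1), (0, 38, 1), (0, 31, 1), (0, 26, 1)],
  [(1, 16, 0), (1, 24, 0), (2, 2, 0), (1, 12, 0), (0, 13, 0), (1, 26, 4), (1, 42, 0), (1, 29, 0), (1, 23, 0), (1, 13, 3), (1, 25, 3), (1, 15, 0), (1, 39, 7), (1, 25, 0)],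
  [(0, 12, 0), (0, 39, 2), (0, 16, 1), (1, 29, 3), (0, 25, 1), (0, 26, 3), (0, 15, 1), (0, 13, 2), (1, 13, 1), (0, 23, 1), (1, 45, 5), (0, 29, 1)],
  [(0, 24, 2), (2, 4, 0), (0, 22, 1), (0, 15, 0), (1, 15, 1), (1, 14, 1), (0, 14, 0), (1, 24, 2), (1, 26, 2), (1, 38, 6), (0, 38, 2), (0, 38, 6), (0, 39, 3), (1, 40, 4), (0, 41, 4), (0, 32, 1), (1, 23, 3), (0, 19, 1), (0, 20, 1), (0, 24, 4), (1, 41, 2)],
  [(0, 39, 6), (2, 5, 0), (0, 16, 0), (0, 22, 3), (1, 16, 1), (1, 41, 3), (0, 23, 4), (1, 23, 2), (0, 42, 0), (1, 42, 1), (0, 19, 2), (1, 39, 3)],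
  [(0, 30, 0), (2, 6, 0), (0, 26, 4), (0, 17, 0), (1, 26, 3), (1, 17, 1), (0, 19, 0), (1, 19, 1), (0, 21, 7), (0, 31, 5), (0, 36, 1), (1, 46, 6), (1, 30, 1)],
  [(1, 27, 0), (0, 22, 0), (2, 7, 0), (1, 34, 0), (1, 28, 0), (1, 23, 1), (1, 24, 3), (1, 25, 4), (0, 26, 2), (1, 29, 4), (0, 42, 2), (1, 29, 1), (0, 42, 4)],
  [(0, 27, 1), (0, 34, 1), (0, 41, 2), (0, 29, 0), (1, 42, 2), (0, 22, 2), (0, 28, 0), (0, 29, 2), (0, 26, 0), (0, 25, 2), (1, 24, 1), (1, 26, 5), (1, 41, 1)],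
  [(0, 32, 0), (0, 31, 2), (1, 35, 2), (1, 37, 2), (1, 46, 3), (0, 33, 5), (0, 31, 0), (2, 9, 0), (0, 35, 5), (0, 30, 2), (0, 27, 0), (1, 27, 1), (0, 31, 4), (0, 37, 2)],
  [(0, 36, 0), (1, 37, 1), (1, 34, 1), (0, 34, 0), (1, 35, 3), (1, 39, 5), (1, 40, 3), (1, 35, 1), (0, 39, 4), (0, 39, 0), (0, 35, 4)],
  []]

def R : List (List Nat) :=
  [[0, 1],
   [1, 0],
   [2, 3],
   [3, 2],
   [4, 4],
   [5, 5],
   [6, 6],
   [7, 8],
   [8, 7],
   [9, 9],
   [10, 10],
   [0, 0, 0],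
   [2, 2, 2],
   [0, 2, 1, 3],
   [0, 4, 0, 4],
   [2, 4, 2, 4],
   [2, 5, 2, 5],
   [0, 6, 0, 6],
   [4, 5, 4, 5, 4, 5],
   [4, 5, 6, 4, 5, 6],
   [4, 6, 4, 6, 4, 6],
   [0, 2, 5, 0, 6, 3, 6, 5],
   [4, 7, 5, 8],
   [2, 8, 4, 5, 7],
   [2, 4, 7, 4, 8],
   [2, 7, 2, 7, 4],
   [0, 8, 2, 6, 4, 7],
   [7, 9, 7, 9],
   [7, 7, 7, 7],
   [2, 7, 3, 4, 7],
   [0, 9, 6, 0, 9, 6],
   [0, 9, 1, 9, 6, 9],
   [4, 9, 4, 9, 4, 9],
   [2, 8, 9, 2, 9, 5, 4, 9],
   [7, 10, 7, 10],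
   [7, 7, 9, 10, 9, 10],
   [6, 10, 6, 10, 6, 10],
   [7, 9, 10, 7, 9, 10],
   [0, 4, 9, 4, 6, 4, 9],
   [0, 2, 4, 10, 0, 5, 1, 10],
   [0, 2, 7, 6, 3, 10, 4, 10, 1, 10],
   [2, 7, 5, 4, 8],
   [2, 8, 2, 8, 5],
   [2, 5, 4, 7, 7, 4],
   [0, 6, 4, 8, 1, 6, 8],
   [0, 4, 3, 0, 7, 4, 8],
   [0, 6, 9, 1, 9, 0, 9]]

def W : List (List Nat) := [[0],
   [1],
   [2],
   [3],
   [4],
   [5],
   [6],
   [7],
   [8],
   [9]]

noncomputable def P : Par := ⟨T, (nat_lit 4), (nat_lit 15), (nat_lit 208), (nat_lit 16), (nat_lit 65535), (nat_lit 7), (nat_lit 127), (nat_lit 11), (nat_lit 128), (nat_lit 128), (nat_lit 0xc5a927418a410c01), RT⟩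

noncomputable def J0 : List Nat := [
  nat_lit 0x93080001161000021c200087080021c20008b0800013e1001000000000502a081041000a20180000182200000000000011801040000002281002088003810c201000038202000040100000041000e0001000000020808010100e088c4300e000110000002080c0001000a0219304c02810000001400041481194104e00000000120a089040000d581000e004101ce0001,
  nat_lit 0x290c041a0800b001000024800082050138000000104002810000000160041601010005020800000100064214104a0381000008800204100182230005298ac201001404000204130128cb040450000281008c082542100001180a501c0982020160000001c004120121a098483a8e000120c402c128c002010100000000141281,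
  nat_lit 0x60014021410012c10000028000001000b04c648003101194a5314e082028100000000003c1301480c0700e34320810200088000041001580077a9800020810000000002441281280c0600a0141001822024001000e0010001040000000281002088c00000c281018a08203000000101040041200000012900039402141001,
  nat_lit 0x5012081585182081041000043800000182200100100ed001000b04c600d2d2013c15816028c0300140800a32080eb001000a0010001410010000091402141181180b040000000001000e0041000ed0013800800000141001015b048002c0000104158166380ec001822308001000c581294b04a002500281014002c129887001,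
  nat_lit 0x18201100820201010ca410003b2081014104a0418ed28100e08805200a000128e0800a3b00c001001a000000012081822000055814000100150406600000010090082938ce200118970504034e020100c400410310c0010000731a080e00010104222c104ec00101440314e6141281399a89c149c8020100c62118104ec001,
  nat_lit 0xa8018000020812c1000e03800d001025e08258003e0810000c00005196081011600100003e0810004001480182081000000018502a081827281a02b0060010000022c050120811080a016080080010000221805036081822308a82a16d001001a00000500208182259100100e80010010bb4100000101188d04c63b880101,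
  nat_lit 0x280003818039208128040014051820811800021405192081680004018500208111800301851b20818220240000000281380a0015801b608118e0888b0010c0011415a96068d832812c1000003a40010120000001861aa0812c1724ed38003281241008c628c001010415a6a4381a00018225b50b2b1cc2014006089562041301]

theorem c0 : chk T (nat_lit 4) (nat_lit 15) (nat_lit 208) (nat_lit 16) (nat_lit 65535) (nat_lit 7) (nat_lit 127) (nat_lit 11) (nat_lit 128) (nat_lit 128) (nat_lit 0xc5a927418a410c01) (nat_lit 5) (nat_lit 31) RT (nat_lit 16) J0 (nat_lit 16) = true := by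
  decide +kernel

theorem r0 : P.RowsOK 16 128 := chk_sound P _ _ _ J0 _ _ (by decide +kernel) c0

theorem index.{u} : IndexLe.{u} 11 R W 112 :=
  indexLe_of_cert P HT (by decide +kernel)
    (show P.RowsOK 16 128 from r0)

end Tk0

theorem upK : CardLe (genW s [[0], [1], [2], [3], [4], [5], [6], [7], [8], [9], [10]]) 3265920 :=
  CardLe.tc (V' := [[0], [1], [2], [3], [4], [5], [6], [7], [8], [9]]) (n := 112) (m := 29160) [0, 1, 2, 3, 4, 5, 6, 7, 8, 9, 10] Tk0.index pres.sat (by decide +kernel) (by decide +kernel) (by decide +kernel) upK_1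

theorem up : CardLe (gen s 12) 898128000 := upK.step (Top.index _ s pres.sat)

end Cfsg.Agent.SchurG.McL
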